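import Groth.Agent.AffineNhd.Union
import Groth.Agent.H23.RedSub

/-!
# Affine neighbourhoods of finite sets, component by component
-/

open CategoryTheory CategoryTheory.Limits AlgebraicGeometry TopologicalSpace Opposite

namespace Groth.Agent.AffineNhd

universe u

variable {X : Scheme.{u}} (T : Finset X)

/-- The reduced subscheme on a closed set. -/
noncomputable abbrev red (Y : Closeds X) : Scheme.{u} := (Scheme.IdealSheafData.vanishingIdeal Y).subscheme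

/-- Its inclusion. -/
noncomputable abbrev redι (Y : Closeds X) : red Y ⟶ X := (Scheme.IdealSheafData.vanishingIdeal Y).subschemeι

theorem range_redι (Y : Closeds X) : Set.range (redι Y) = (Y : Set X) :=
  H23.RedSub.range_vanishingIdeal Y

/-- Inclusion of reduced subschemes. -/
noncomputable def redMap {Y Y' : Closeds X} (h : Y ≤ Y') : red Y ⟶ red Y' :=
  IsClosedImmersion.lift (redι Y') (redι Y) (by
    rw [Scheme.IdealSheafData.ker_subschemeι, Scheme.IdealSheafData.ker_subschemeι]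
    exact Scheme.IdealSheafData.vanishingIdeal_antimono h)

theorem redMap_comp {Y Y' : Closeds X} (h : Y ≤ Y') : redMap h ≫ redι Y' = redι Y :=
  IsClosedImmersion.lift_fac _ _ _

instance {Y Y' : Closeds X} (h : Y ≤ Y') : IsClosedImmersion (redMap h) := by
  have : IsClosedImmersion (redMap h ≫ redι Y') := by rw [redMap_comp]; infer_instance
  exact IsClosedImmersion.of_comp_isClosedImmersion _ (redι Y')

theorem redMap_apply {Y Y' : Closeds X} (h : Y ≤ Y') (y : red Y) : redι Y' (redMap h y) = redι Y y := by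
  show (redMap h ≫ redι Y') y = _
  rw [redMap_comp]

/-- An open of `X` containing the relevant points with affine trace on the reduced subscheme `Y`. -/
def HasNhd (Y : Closeds X) : Prop :=
  ∃ O : X.Opens, IsAffineOpen (redι Y ⁻¹ᵁ O) ∧ ∀ t ∈ T, t ∈ Y → t ∈ O

theorem hasNhd_bot : HasNhd T ⊥ := by
  refine ⟨⊥, ?_, fun t _ ht => ht.elim⟩
  rw [Scheme.Hom.preimage_bot]
  exact isAffineOpen_bot _

theorem exists_finset_preimage (Y : Closeds X) :
    ∃ F : Finset (red Y), ∀ y, y ∈ F ↔ redι Y y ∈ T :=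
  ⟨T.preimage (redι Y) (redι Y).isEmbedding.injective.injOn, fun _ => Finset.mem_preimage⟩

variable {T}

theorem HasNhd.sup {Y Z : Closeds X} (hY : HasNhd T Y) (hZ : HasNhd T Z) : HasNhd T (Y ⊔ Z) := by
  classical
  obtain ⟨OY, hPa, hTY⟩ := hY
  obtain ⟨OZ, hQa, hTZ⟩ := hZ
  let P := redι Y ⁻¹ᵁ OY
  let Q := redι Z ⁻¹ᵁ OZ
  let j : red (Y ⊓ Z) ⟶ red Y := redMap inf_le_left
  let k : red (Y ⊓ Z) ⟶ red Z := redMap inf_le_right
  obtain ⟨FY, hFY⟩ := exists_finset_preimage T Y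
  obtain ⟨FZ, hFZ⟩ := exists_finset_preimage T Z
  have hjk : ∀ c, redι Y (j c) = redι Z (k c) := fun c => (redMap_apply _ c).trans (redMap_apply _ c).symm
  have hFP : ∀ y ∈ FY, y ∈ P := fun y hy =>
    hTY _ ((hFY y).1 hy) (show redι Y y ∈ (Y : Set X) from range_redι Y ▸ ⟨y, rfl⟩)
  have hFQ : ∀ z ∈ FZ, z ∈ Q := fun z hz =>
    hTZ _ ((hFZ z).1 hz) (show redι Z z ∈ (Z : Set X) from range_redι Z ▸ ⟨z, rfl⟩)
  -- shrink the piece on `Y`
  let VY : (red Y).Opens := ⟨(j '' (k ⁻¹ᵁ Q : Set (red (Y ⊓ Z)))ᶜ)ᶜ,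
    (j.isClosedEmbedding.isClosedMap _ (k ⁻¹ᵁ Q).isOpen.isClosed_compl).isOpen_compl⟩
  obtain ⟨p, hp, hFp⟩ := exists_basicOpen_finset hPa FY hFP VY (by
    rintro _ hy ⟨c, hc, rfl⟩
    exact hc (hFQ _ ((hFZ _).2 (hjk c ▸ (hFY _).1 hy))))
  let P1 := (red Y).basicOpen p
  have hP1 : IsAffineOpen P1 := hPa.basicOpen p
  have hC1le : j ⁻¹ᵁ P1 ≤ k ⁻¹ᵁ Q := fun c hc => by
    by_contra h
    exact hp hc ⟨c, h, rfl⟩
  -- shrink the piece on `Z`
  let VZ : (red Z).Opens := ⟨(k '' (j ⁻¹ᵁ P1 : Set (red (Y ⊓ Z)))ᶜ)ᶜ,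
    (k.isClosedEmbedding.isClosedMap _ (j ⁻¹ᵁ P1).isOpen.isClosed_compl).isOpen_compl⟩
  obtain ⟨c, hc, hFc⟩ := exists_basicOpen_finset hQa FZ hFQ VZ (by
    rintro _ hz ⟨w, hw, rfl⟩
    exact hw (hFp _ ((hFY _).2 ((hjk w).symm ▸ (hFZ _).1 hz))))
  have hkc : k ⁻¹ᵁ (red Z).basicOpen c ≤ j ⁻¹ᵁ P1 := fun w hw => by
    by_contra h
    exact hc hw ⟨w, h, rfl⟩
  obtain ⟨c', hc'⟩ := app_surjective j hP1 (k.appLE Q (j ⁻¹ᵁ P1) hC1le c)
  let S : Finset (PrimeSpectrum Γ(red Y, P1)) :=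
    FY.attach.image fun y => hP1.primeIdealOf ⟨y.1, hFp y.1 y.2⟩
  obtain ⟨i, hi, hiS⟩ := exists_add_notMem S c' (RingHom.ker (j.app P1).hom) fun q hq hc'q hle => by
    obtain ⟨⟨y, hy⟩, -, rfl⟩ := Finset.mem_image.1 hq
    have hyr : y ∈ Set.range j := by
      rw [← j.isClosedEmbedding.isClosed_range.closure_eq, ← Scheme.Hom.support_ker]
      show y ∈ (Scheme.Hom.ker j).support
      rw [Scheme.IdealSheafData.mem_support_iff_of_mem (U := ⟨P1, hP1⟩) (hFp y hy)]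
      refine ((red Y).mem_zeroLocus_iff _ _).2 fun g hg hyg => ?_
      rw [Scheme.Hom.ker_apply] at hg
      have h2 := hle hg
      rw [hP1.primeIdealOf_eq_map_closedPoint] at h2
      exact h2 (((red Y).mem_basicOpen g y (hFp y hy)).1 hyg)
    obtain ⟨w, rfl⟩ := hyr
    have h1 : w ∈ j ⁻¹ᵁ (red Y).basicOpen c' := by
      rw [Scheme.preimage_basicOpen]
      erw [hc']
      rw [Scheme.basicOpen_appLE]
      exact ⟨hFp _ hy, hFc _ ((hFZ _).2 (hjk w ▸ (hFY _).1 hy))⟩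
    rw [hP1.primeIdealOf_eq_map_closedPoint] at hc'q
    exact hc'q (((red Y).mem_basicOpen c' (j w) (hFp _ hy)).1 h1)
  let P2 := (red Y).basicOpen (c' + i)
  let Q2 := (red Z).basicOpen c
  have hFP2 : ∀ y ∈ FY, y ∈ P2 := fun y hy => by
    have h2 := hiS _ (Finset.mem_image.2 ⟨⟨y, hy⟩, Finset.mem_attach _ _, rfl⟩)
    rw [hP1.primeIdealOf_eq_map_closedPoint] at h2
    exact ((red Y).mem_basicOpen _ y (hFp y hy)).2 (IsLocalRing.notMem_maximalIdeal.1 h2)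
  have hagree : j ⁻¹ᵁ P2 = k ⁻¹ᵁ Q2 := by
    rw [Scheme.preimage_basicOpen, map_add, RingHom.mem_ker.1 hi, add_zero]
    erw [hc']
    rw [Scheme.basicOpen_appLE]
    exact inf_eq_right.2 hkc
  let O : X.Opens := ⟨(redι Y '' (P2 : Set (red Y))ᶜ ∪ redι Z '' (Q2 : Set (red Z))ᶜ)ᶜ,
    ((((redι Y).isClosedEmbedding.isClosedMap _ P2.isOpen.isClosed_compl)).union
      ((redι Z).isClosedEmbedding.isClosedMap _ Q2.isOpen.isClosed_compl)).isOpen_compl⟩
  have hcommon : ∀ y z, redι Y y = redι Z z → (y ∈ P2 ↔ z ∈ Q2) := by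
    intro y z h
    obtain ⟨w, hw⟩ : redι Y y ∈ Set.range (redι (Y ⊓ Z)) := by
      rw [range_redι, Closeds.coe_inf]
      exact ⟨range_redι Y ▸ ⟨y, rfl⟩, range_redι Z ▸ ⟨z, h.symm⟩⟩
    have hy : j w = y := (redι Y).isEmbedding.injective ((redMap_apply _ w).trans hw)
    have hz : k w = z := (redι Z).isEmbedding.injective ((redMap_apply _ w).trans (hw.trans h))
    rw [← hy, ← hz]
    show w ∈ j ⁻¹ᵁ P2 ↔ w ∈ k ⁻¹ᵁ Q2
    rw [hagree]
  have hOY : redι Y ⁻¹ᵁ O = P2 := by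
    ext y
    show redι Y y ∉ _ ↔ y ∈ P2
    refine ⟨fun h => not_not.1 fun hy => h (Or.inl ⟨y, hy, rfl⟩), fun hy => ?_⟩
    rintro (⟨y', hy', e⟩ | ⟨z, hz, e⟩)
    · exact hy' ((redι Y).isEmbedding.injective e ▸ hy)
    · exact hz ((hcommon y z e.symm).1 hy)
  have hOZ : redι Z ⁻¹ᵁ O = Q2 := by
    ext z
    show redι Z z ∉ _ ↔ z ∈ Q2
    refine ⟨fun h => not_not.1 fun hz => h (Or.inr ⟨z, hz, rfl⟩), fun hz => ?_⟩
    rintro (⟨y, hy, e⟩ | ⟨z', hz', e⟩)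
    · exact hy ((hcommon y z e).2 hz)
    · exact hz' ((redι Z).isEmbedding.injective e ▸ hz)
  refine ⟨O, ?_, fun t ht htYZ => ?_⟩
  · let a := redMap (le_sup_left : Y ≤ Y ⊔ Z)
    let b := redMap (le_sup_right : Z ≤ Y ⊔ Z)
    let W := redι (Y ⊔ Z) ⁻¹ᵁ O
    have ha : a ⁻¹ᵁ W = P2 := by
      rw [← Scheme.Hom.comp_preimage, redMap_comp, hOY]
    have hb : b ⁻¹ᵁ W = Q2 := by
      rw [← Scheme.Hom.comp_preimage, redMap_comp, hOZ]
    haveI : IsAffine (a ⁻¹ᵁ W).toScheme := ha ▸ hP1.basicOpen _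
    haveI : IsAffine (b ⁻¹ᵁ W).toScheme := hb ▸ hQa.basicOpen _
    refine isAffine_of_union (a ∣_ W) (b ∣_ W) (Set.eq_univ_of_forall fun w => ?_)
    have hw : redι (Y ⊔ Z) w.1 ∈ ((Y ⊔ Z : Closeds X) : Set X) := range_redι (Y ⊔ Z) ▸ ⟨w.1, rfl⟩
    rcases hw with hw | hw
    · obtain ⟨y, hy⟩ : redι (Y ⊔ Z) w.1 ∈ Set.range (redι Y) := by rw [range_redι]; exact hw
      have e : a y = w.1 := (redι (Y ⊔ Z)).isEmbedding.injective ((redMap_apply _ y).trans hy)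
      refine Or.inl ⟨⟨y, show a y ∈ W by rw [e]; exact w.2⟩, W.ι.isOpenEmbedding.injective ?_⟩
      show ((a ∣_ W) ≫ W.ι) _ = w.1
      rw [morphismRestrict_ι]
      exact e
    · obtain ⟨z, hz⟩ : redι (Y ⊔ Z) w.1 ∈ Set.range (redι Z) := by rw [range_redι]; exact hw
      have e : b z = w.1 := (redι (Y ⊔ Z)).isEmbedding.injective ((redMap_apply _ z).trans hz)
      refine Or.inr ⟨⟨z, show b z ∈ W by rw [e]; exact w.2⟩, W.ι.isOpenEmbedding.injective ?_⟩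
      show ((b ∣_ W) ≫ W.ι) _ = w.1
      rw [morphismRestrict_ι]
      exact e
  · rcases htYZ with h | h
    · obtain ⟨y, rfl⟩ : t ∈ Set.range (redι Y) := by rw [range_redι]; exact h
      show y ∈ redι Y ⁻¹ᵁ O
      rw [hOY]
      exact hFP2 y ((hFY y).2 ht)
    · obtain ⟨z, rfl⟩ : t ∈ Set.range (redι Z) := by rw [range_redι]; exact h
      show z ∈ redι Z ⁻¹ᵁ O
      rw [hOZ]
      exact hFc z ((hFZ z).2 ht)

theorem HasNhd.finset_sup {ι : Type*} (s : Finset ι) (Y : ι → Closeds X) (h : ∀ i ∈ s, HasNhd T (Y i)) :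
    HasNhd T (s.sup Y) :=
  Finset.sup_induction (hasNhd_bot T) (fun _ h₁ _ h₂ => h₁.sup h₂) h

end Groth.Agent.AffineNhd
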