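import Groth.Agent.AffineNhd.Lift
import Groth.Agent.ProConsLib.Image
import Mathlib.AlgebraicGeometry.Morphisms.Affine
import Mathlib.AlgebraicGeometry.Morphisms.QuasiSeparated
import Mathlib.RingTheory.Ideal.Operations

/-!
# An affine open containing finitely many images of points with isomorphic stalks
-/

open CategoryTheory CategoryTheory.Limits AlgebraicGeometry IsLocalRing Topology TopologicalSpace Opposite

namespace Groth.Agent.AffineNhd

universe u

variable {T X : Scheme.{u}}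

theorem exists_specializes_of_mem_closure_diff [QuasiSeparatedSpace X] {O P : X.Opens}
    (hO : IsCompact (O : Set X)) {y : X} (hy : y ∈ closure ((O : Set X) \ (P : Set X))) :
    ∃ z ∈ O, z ∉ P ∧ z ⤳ y := by
  have hlc : IsLocallyClosed ((O : Set X) \ (P : Set X)) :=
    O.isOpen.isLocallyClosed.inter P.isOpen.isClosed_compl.isLocallyClosed
  have hpc := ProConsLib.isProConstructible_of_isLocallyClosed hlc fun V hV => by
    rw [Set.diff_eq, Set.inter_right_comm]
    exact (QuasiSeparatedSpace.inter_isCompact _ _ O.isOpen hO V.isOpen hV.isCompact).inter_right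
      P.isOpen.isClosed_compl
  obtain ⟨z, hz, hzy⟩ := ProConsLib.exists_specializes_of_mem_closure hpc hy
  exact ⟨z, hz.1, hz.2, hzy⟩

theorem exists_specializes_of_mem_closure_image [QuasiSeparatedSpace X] {S : Scheme.{u}} [IsAffine S]
    (g : S ⟶ X) (P : S.Opens) {y : X} (hy : y ∈ closure (g '' (P : Set S)ᶜ)) :
    ∃ z ∉ P, g z ⤳ y := by
  haveI : QuasiCompact g := inferInstance
  have hpc := ProConsLib.isProConstructible_of_isLocallyClosed P.isOpen.isClosed_compl.isLocallyClosed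
    fun V hV => hV.isCompact.inter_left P.isOpen.isClosed_compl
  obtain ⟨z, hz, hzy⟩ := ProConsLib.exists_specializes_of_mem_closure_image_scheme hpc g hy
  exact ⟨z, hz, hzy⟩

theorem isOpen_germ_eq {N : X.Opens} (s s' : Γ(X, N)) :
    IsOpen {y | ∃ h : y ∈ N, X.presheaf.germ N y h s = X.presheaf.germ N y h s'} := by
  rw [isOpen_iff_forall_mem_open]
  rintro y ⟨hy, e⟩
  obtain ⟨W, hyW, iW, iW', hW⟩ := X.presheaf.germ_eq y hy hy s s' e
  refine ⟨W, fun z hz => ⟨leOfHom iW hz, ?_⟩, W.isOpen, hyW⟩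
  rw [← TopCat.Presheaf.germ_res_apply X.presheaf iW z hz s, hW, TopCat.Presheaf.germ_res_apply]

/-- Points generalizing one of the images. -/
def gen (f : T ⟶ X) (s : Finset T) : Set X := {y | ∃ t ∈ s, y ⤳ f t}

theorem not_mem_closure_diff [QuasiSeparatedSpace X] {f : T ⟶ X} {s : Finset T} {O P : X.Opens}
    (hO : IsCompact (O : Set X)) (h : ∀ z ∈ O, z ∈ gen f s → z ∈ P) {t : T} (ht : t ∈ s) :
    f t ∉ closure ((O : Set X) \ (P : Set X)) := fun hy => by
  obtain ⟨z, hzO, hzP, hz⟩ := exists_specializes_of_mem_closure_diff hO hy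
  exact hzP (h z hzO ⟨t, ht, hz⟩)

theorem exists_isCompact_nhd {f : T ⟶ X} (s : Finset T) (O : X.Opens) (h : ∀ t ∈ s, f t ∈ O) :
    ∃ W : X.Opens, IsCompact (W : Set X) ∧ W ≤ O ∧ ∀ t ∈ s, f t ∈ W := by
  have h1 : ∀ t : s, ∃ V : X.Opens, IsAffineOpen V ∧ f t.1 ∈ V ∧ V ≤ O := by
    rintro ⟨t, ht⟩
    obtain ⟨_, ⟨V, hV, rfl⟩, htV, hVO⟩ :=
      X.isBasis_affineOpens.exists_subset_of_mem_open (h t ht) O.isOpen
    exact ⟨V, hV, htV, hVO⟩
  choose V hV htV hVO using h1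
  refine ⟨⨆ t, V t, ?_, iSup_le hVO, fun t ht => Opens.mem_iSup.2 ⟨⟨t, ht⟩, htV _⟩⟩
  rw [Opens.coe_iSup]
  exact isCompact_iUnion fun t => (hV t).isCompact

variable [QuasiSeparatedSpace X] [IsAffine T] (f : T ⟶ X)
  (hgen : ∀ η : T, closure ({η} : Set T) ∈ irreducibleComponents (T : Type u) →
    closure ({(f.base η)} : Set X) ∈ irreducibleComponents (X : Type u))
  (hinj : ∀ η η' : T, closure ({η} : Set T) ∈ irreducibleComponents (T : Type u) →
    closure ({η'} : Set T) ∈ irreducibleComponents (T : Type u) → f.base η = f.base η' → η = η')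
  (s : Finset T) (hs : ∀ t ∈ s, IsIso (f.stalkMap t))

theorem exists_local_section {t : T} [IsIso (f.stalkMap t)] (a : Γ(T, ⊤)) :
    ∃ (N : X.Opens) (b : Γ(X, N)) (M : T.Opens), f t ∈ N ∧ t ∈ M ∧ ∀ (q : T) (_ : q ∈ M) (h : f q ∈ N),
      f.stalkMap q (X.presheaf.germ N (f q) h b) = T.presheaf.germ ⊤ q trivial a := by
  obtain ⟨β, hβ⟩ : ∃ β, f.stalkMap t β = T.presheaf.germ ⊤ t trivial a :=
    ⟨inv (f.stalkMap t) (T.presheaf.germ ⊤ t trivial a), IsIso.inv_hom_id_apply _ _⟩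
  obtain ⟨N, hN, b, rfl⟩ := X.presheaf.exists_germ_eq β
  rw [Scheme.Hom.germ_stalkMap_apply] at hβ
  obtain ⟨M, htM, i₁, i₂, hM⟩ := T.presheaf.germ_eq t (show t ∈ f ⁻¹ᵁ N from hN) (Opens.mem_top t) _ _ hβ
  refine ⟨N, b, M, hN, htM, fun q hq h => ?_⟩
  rw [Scheme.Hom.germ_stalkMap_apply, ← TopCat.Presheaf.germ_res_apply T.presheaf i₁ q hq, hM,
    TopCat.Presheaf.germ_res_apply]

include hs in
theorem exists_isIso_lift {y : X} (hy : y ∈ gen f s) :
    ∃ q : T, f q = y ∧ IsIso (f.stalkMap q) := by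
  obtain ⟨t, ht, hyt⟩ := hy
  haveI := hs t ht
  obtain ⟨q, hq, e⟩ := exists_preimage f hyt
  exact ⟨q, e, isIso_stalkMap_of_specializes f hq⟩

include hgen hinj hs in
/-- Every function on `T` comes from a quasi-compact neighbourhood of the images. -/
theorem exists_glue (a : Γ(T, ⊤)) :
    ∃ (W : X.Opens) (H : Γ(X, W)), IsCompact (W : Set X) ∧ (∀ t ∈ s, f t ∈ W) ∧
      ∀ (q : T), IsIso (f.stalkMap q) → f q ∈ gen f s → ∀ h : f q ∈ W,
        f.stalkMap q (X.presheaf.germ W (f q) h H) = T.presheaf.germ ⊤ q trivial a := by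
  have h1 : ∀ t : s, ∃ (V : X.Opens) (b : Γ(X, V)), IsAffineOpen V ∧ f t.1 ∈ V ∧
      ∀ (q : T), IsIso (f.stalkMap q) → f q ∈ gen f s → ∀ h : f q ∈ V,
        f.stalkMap q (X.presheaf.germ V (f q) h b) = T.presheaf.germ ⊤ q trivial a := by
    rintro ⟨t, ht⟩
    haveI := hs t ht
    obtain ⟨N, b, M, htN, htM, hb⟩ := exists_local_section f (t := t) a
    let K : Set X := ⋃ t' : s, closure ((T.fromSpecStalk t'.1 ≫ f) ''
      ((T.fromSpecStalk t'.1 ⁻¹ᵁ M : Opens _) : Set (Spec (T.presheaf.stalk t'.1)))ᶜ)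
    have hK : f t ∉ K := by
      intro h
      obtain ⟨⟨t', ht'⟩, h⟩ := Set.mem_iUnion.1 h
      obtain ⟨z, hz, hzt⟩ := exists_specializes_of_mem_closure_image _ _ h
      haveI := hs t' ht'
      obtain ⟨q, hqt, hq⟩ := exists_preimage f (t := t) hzt
      haveI := isIso_stalkMap_of_specializes f hqt
      have hz' : T.fromSpecStalk t' z ⤳ t' := by
        show _ ∈ {w | w ⤳ t'}
        rw [← Scheme.range_fromSpecStalk]
        exact ⟨z, rfl⟩
      haveI := isIso_stalkMap_of_specializes f hz'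
      have := eq_of_isIso_stalkMap f hgen hinj (q := q) (q' := T.fromSpecStalk t' z) hq
      exact hz (show T.fromSpecStalk t' z ∈ M from this ▸ hqt.mem_open M.isOpen htM)
    obtain ⟨_, ⟨V, hV, rfl⟩, htV, hVN⟩ := X.isBasis_affineOpens.exists_subset_of_mem_open
      (show f t ∈ (N : Set X) ∩ Kᶜ from ⟨htN, hK⟩)
      (N.isOpen.inter (isClosed_iUnion_of_finite fun _ => isClosed_closure).isOpen_compl)
    refine ⟨V, X.presheaf.map (homOfLE fun z hz => (hVN hz).1).op b, hV, htV, fun q hq hg h => ?_⟩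
    rw [TopCat.Presheaf.germ_res_apply]
    refine hb q ?_ _
    obtain ⟨t', ht', hqt'⟩ := hg
    haveI := hs t' ht'
    obtain ⟨q', hq't, e⟩ := exists_preimage f hqt'
    haveI := isIso_stalkMap_of_specializes f hq't
    haveI := hq
    obtain rfl := eq_of_isIso_stalkMap f hgen hinj e
    by_contra hqM
    obtain ⟨z, rfl⟩ : q' ∈ Set.range (T.fromSpecStalk t') := by
      rw [Scheme.range_fromSpecStalk]; exact hq't
    exact (hVN h).2 (Set.mem_iUnion.2 ⟨⟨t', ht'⟩, subset_closure ⟨z, hqM, rfl⟩⟩)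
  choose V b hV htV hb using h1
  let Eq (i j : s) : X.Opens := ⟨_, isOpen_germ_eq
    (X.presheaf.map (homOfLE (inf_le_left (b := V j))).op (b i))
    (X.presheaf.map (homOfLE (inf_le_right (a := V i))).op (b j))⟩
  let O : X.Opens := ⟨(⋃ p : s × s, closure (((V p.1 ⊓ V p.2 : X.Opens) : Set X) \ (Eq p.1 p.2 : Set X)))ᶜ,
    (isClosed_iUnion_of_finite fun _ => isClosed_closure).isOpen_compl⟩
  have hO : ∀ t : s, f t.1 ∈ O := by
    rintro ⟨t, ht⟩ h
    obtain ⟨⟨i, j⟩, h⟩ := Set.mem_iUnion.1 h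
    refine not_mem_closure_diff (f := f) (s := s)
      (QuasiSeparatedSpace.inter_isCompact _ _ (V i).isOpen (hV i).isCompact (V j).isOpen (hV j).isCompact)
      (fun z hz hg => ?_) ht h
    obtain ⟨q, rfl, hq⟩ := exists_isIso_lift f s hs hg
    refine ⟨hz, (ConcreteCategory.bijective_of_isIso (f.stalkMap q)).injective ?_⟩
    rw [TopCat.Presheaf.germ_res_apply, TopCat.Presheaf.germ_res_apply, hb i q hq hg hz.1,
      hb j q hq hg hz.2]
  have h2 : ∀ t : s, ∃ V' : X.Opens, IsAffineOpen V' ∧ f t.1 ∈ V' ∧ V' ≤ V t ⊓ O := by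
    intro t
    obtain ⟨_, ⟨V', hV', rfl⟩, htV', hV'O⟩ := X.isBasis_affineOpens.exists_subset_of_mem_open
      (show f t.1 ∈ ((V t ⊓ O : X.Opens) : Set X) from ⟨htV t, hO t⟩) (V t ⊓ O).isOpen
    exact ⟨V', hV', htV', hV'O⟩
  choose V' hV' htV' hV'O using h2
  let sf (t : s) : Γ(X, V' t) := X.presheaf.map (homOfLE ((hV'O t).trans inf_le_left)).op (b t)
  have hcompat : TopCat.Presheaf.IsCompatible X.sheaf.1 V' sf := by
    intro i j
    refine TopCat.Presheaf.section_ext X.sheaf _ _ _ fun z hz => ?_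
    show X.presheaf.germ _ z hz (X.presheaf.map (Opens.infLELeft _ _).op (sf i)) =
      X.presheaf.germ _ z hz (X.presheaf.map (Opens.infLERight _ _).op (sf j))
    rw [TopCat.Presheaf.germ_res_apply, TopCat.Presheaf.germ_res_apply]
    simp only [sf, TopCat.Presheaf.germ_res_apply]
    by_contra hne
    have hzi := hV'O i hz.1
    refine hzi.2 (Set.mem_iUnion.2 ⟨(i, j), subset_closure ⟨⟨hzi.1, (hV'O j hz.2).1⟩, ?_⟩⟩)
    rintro ⟨hz', he⟩
    rw [TopCat.Presheaf.germ_res_apply, TopCat.Presheaf.germ_res_apply] at he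
    exact hne he
  obtain ⟨H, hH, -⟩ := X.sheaf.existsUnique_gluing' V' (⨆ t, V' t) (fun t => homOfLE (le_iSup V' t))
    le_rfl sf hcompat
  refine ⟨⨆ t, V' t, H, ?_, fun t ht => Opens.mem_iSup.2 ⟨⟨t, ht⟩, htV' _⟩, fun q hq hg h => ?_⟩
  · rw [Opens.coe_iSup]
    exact isCompact_iUnion fun t => (hV' t).isCompact
  · obtain ⟨i, hi⟩ := Opens.mem_iSup.1 h
    rw [← TopCat.Presheaf.germ_res_apply X.presheaf (homOfLE (le_iSup V' i)) (f q) hi H]
    erw [hH i]
    simp only [sf, TopCat.Presheaf.germ_res_apply]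
    exact hb i q hq hg _

include hgen hinj hs in
theorem exists_affineOpen_containing :
    ∃ U : X.Opens, IsAffineOpen U ∧ ∀ t ∈ s, f t ∈ U := by
  classical
  have h1 : ∀ t : s, ∃ (U : X.Opens) (a : Γ(T, ⊤)), IsAffineOpen U ∧ f t.1 ∈ U ∧
      t.1 ∈ T.basicOpen a ∧ T.basicOpen a ≤ f ⁻¹ᵁ U := by
    rintro ⟨t, ht⟩
    obtain ⟨_, ⟨U, hU, rfl⟩, htU, -⟩ :=
      X.isBasis_affineOpens.exists_subset_of_mem_open (Set.mem_univ (f t)) isOpen_univ
    obtain ⟨a, ha, hta⟩ := (isAffineOpen_top T).exists_basicOpen_le (V := f ⁻¹ᵁ U) ⟨t, htU⟩ trivial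
    exact ⟨U, a, hU, htU, hta, ha⟩
  choose U a hU htU hta haU using h1
  choose W H hWc htW hH using fun t : s => exists_glue f hgen hinj s hs (a t)
  -- a neighbourhood where every `H t` is nonvanishing only inside `U t`
  let O : X.Opens := ⟨(⋃ t : s, closure ((X.basicOpen (H t) : Set X) \ (U t : Set X)))ᶜ,
    (isClosed_iUnion_of_finite fun _ => isClosed_closure).isOpen_compl⟩
  have hbc : ∀ t : s, IsCompact (X.basicOpen (H t) : Set X) := fun t => isCompact_basicOpen X (hWc t) (H t)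
  have hO : ∀ t ∈ s, f t ∈ O := by
    intro t ht h
    obtain ⟨i, h⟩ := Set.mem_iUnion.1 h
    refine not_mem_closure_diff (f := f) (s := s) (hbc i) (fun z hz hg => ?_) ht h
    obtain ⟨q, rfl, hq⟩ := exists_isIso_lift f s hs hg
    have hzW : f q ∈ W i := X.basicOpen_le _ hz
    refine haU i ?_
    rw [Scheme.mem_basicOpen _ _ _ (Set.mem_univ q)] at *
    have := ((X.mem_basicOpen (H i) (f q) hzW).1 hz).map (f.stalkMap q).hom
    rwa [hH i q hq hg hzW] at this
  obtain ⟨W', hW'c, hW'O, htW'⟩ := exists_isCompact_nhd (f := f) s (O ⊓ Finset.univ.inf W) fun t ht =>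
    ⟨hO t ht, by
      show f t ∈ ((Finset.univ.inf W : X.Opens) : Set X)
      rw [Opens.coe_finset_inf, Finset.inf_set_eq_iInter]
      exact Set.mem_iInter₂.2 fun i _ => htW i t ht⟩
  have hW'W : ∀ i, W' ≤ W i := fun i =>
    (hW'O.trans inf_le_right).trans (Finset.inf_le (Finset.mem_univ i))
  let H' (i : s) : Γ(X, W') := X.presheaf.map (homOfLE (hW'W i)).op (H i)
  have hsub : ∀ i, X.basicOpen (H' i) ≤ U i := fun i z hz => by
    simp only [H', Scheme.basicOpen_res] at hz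
    by_contra hzU
    exact (hW'O hz.1).1 (Set.mem_iUnion.2 ⟨i, subset_closure ⟨hz.2, hzU⟩⟩)
  have h3 : ∀ i : s, ∃ y : Γ(X, W'), IsAffineOpen (X.basicOpen y) ∧ f i.1 ∈ X.basicOpen y := by
    intro i
    obtain ⟨u, hu, hxu⟩ := (hU i).exists_basicOpen_le (V := W') ⟨f i.1, htW' _ i.2⟩ (htU i)
    let D := X.basicOpen (H' i)
    let uD : Γ(X, D) := X.presheaf.map (homOfLE (hsub i)).op u
    obtain ⟨n, y, hy⟩ := exists_eq_pow_mul_of_isCompact_of_isQuasiSeparated X W' hW'c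
      ((isQuasiSeparated_univ.of_subset (Set.subset_univ _))) (H' i) uD
    have e : X.basicOpen (y * H' i) = X.basicOpen (X.presheaf.map (homOfLE hu).op (H' i)) := by
      rw [Scheme.basicOpen_mul]
      have e2 := congrArg X.basicOpen hy
      have hun : IsUnit ((H' i |_ X.basicOpen (H' i)) ^ n) :=
        (RingedSpace.isUnit_res_basicOpen _ (H' i)).pow n
      replace e2 : X.basicOpen (H' i) ⊓ X.basicOpen y = X.basicOpen (H' i) ⊓ (X.basicOpen (H' i) ⊓ X.basicOpen u) :=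
        ((X.basicOpen_res y (homOfLE (X.basicOpen_le (H' i))).op).symm.trans e2).trans
          ((X.basicOpen_mul _ _).trans (congrArg₂ (· ⊓ ·) (X.basicOpen_of_isUnit hun)
            (X.basicOpen_res u (homOfLE (hsub i)).op)))
      rw [inf_comm, e2, ← inf_assoc, inf_idem, inf_comm]
      exact (X.basicOpen_res (H' i) (homOfLE hu).op).symm
    refine ⟨y * H' i, e ▸ ((hU i).basicOpen u).basicOpen _, ?_⟩
    rw [e, Scheme.basicOpen_res]
    refine ⟨hxu, ?_⟩
    simp only [H', Scheme.basicOpen_res]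
    refine ⟨htW' _ i.2, ?_⟩
    haveI := hs i.1 i.2
    rw [SetLike.mem_coe, X.mem_basicOpen _ _ (htW i _ i.2)]
    refine (isUnit_map_iff (f.stalkMap i.1).hom _).1 ?_
    erw [hH i i.1 (hs i.1 i.2) ⟨i.1, i.2, specializes_rfl⟩ (htW i _ i.2)]
    exact (T.mem_basicOpen (a i) i.1 trivial).1 (hta i)
  choose y hy hty using h3
  let I : Ideal Γ(X, W') := Ideal.span (Set.range y)
  let P (i : s) : Ideal Γ(X, W') :=
    (IsLocalRing.maximalIdeal (X.presheaf.stalk (f i.1))).comap (X.presheaf.germ W' _ (htW' _ i.2)).hom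
  obtain ⟨g, hgI, hgP⟩ : ∃ g ∈ I, ∀ i, g ∉ P i := by
    by_contra hcon
    push Not at hcon
    obtain ⟨i₀, -⟩ := hcon 0 I.zero_mem
    obtain ⟨i, -, hi⟩ := (Ideal.subset_union_prime (s := Finset.univ) (f := P) (I := I)
      i₀ i₀ fun i _ _ _ => inferInstance).1 fun g hg => by
        obtain ⟨i, hi⟩ := hcon g hg
        exact Set.mem_biUnion (Finset.mem_coe.2 (Finset.mem_univ i)) hi
    exact (IsLocalRing.notMem_maximalIdeal.2 ((X.mem_basicOpen (y i) _ (htW' _ i.2)).1 (hty i)))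
      (hi (Ideal.subset_span ⟨i, rfl⟩))
  refine ⟨X.basicOpen g, ?_, fun t ht => (X.mem_basicOpen g _ (htW' t ht)).2
    (IsLocalRing.notMem_maximalIdeal.1 (hgP ⟨t, ht⟩))⟩
  refine isAffineOpen_of_isAffineOpen_basicOpen _
    (Set.range fun i => X.presheaf.map (homOfLE (X.basicOpen_le g)).op (y i)) ?_ ?_
  · refine Ideal.eq_top_of_isUnit_mem _ ?_ (RingedSpace.isUnit_res_basicOpen _ g)
    have := Ideal.mem_map_of_mem (X.presheaf.map (homOfLE (X.basicOpen_le g)).op).hom hgI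
    rw [Ideal.map_span, ← Set.range_comp] at this
    exact this
  · rintro _ ⟨i, rfl⟩
    rw [Scheme.basicOpen_res, inf_comm, ← Scheme.basicOpen_res X g (homOfLE (X.basicOpen_le (y i))).op]
    exact (hy i).basicOpen _

end Groth.Agent.AffineNhd
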