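import Mathlib.AlgebraicGeometry.Stalk
import Mathlib.AlgebraicGeometry.Morphisms.Separated
import Mathlib.Topology.Sober

/-!
# Generalizations of points where the stalk map is an isomorphism

For `f : T ⟶ X` and `t : T` with `f.stalkMap t` an isomorphism, `f` maps the generalizations of `t`
bijectively to those of `f t`, with isomorphisms on stalks; if `T` is separated and `f` respects
generic points injectively, the preimage is unique among all such points.
-/

open CategoryTheory CategoryTheory.Limits AlgebraicGeometry IsLocalRing Topology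

namespace Groth.Agent.AffineNhd

universe u

variable {T X : Scheme.{u}} (f : T ⟶ X)

theorem eq_of_specializes {t q q' : T} [IsIso (f.stalkMap t)] (h : q ⤳ t) (h' : q' ⤳ t)
    (e : f q = f q') : q = q' := by
  obtain ⟨w, rfl⟩ : q ∈ Set.range (T.fromSpecStalk t) := by rw [Scheme.range_fromSpecStalk]; exact h
  obtain ⟨w', rfl⟩ : q' ∈ Set.range (T.fromSpecStalk t) := by rw [Scheme.range_fromSpecStalk]; exact h'
  have e' : (T.fromSpecStalk t ≫ f) w = (T.fromSpecStalk t ≫ f) w' := e
  rw [← Scheme.SpecMap_stalkMap_fromSpecStalk] at e'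
  have e1 := (X.fromSpecStalk (f t)).isEmbedding.injective e'
  rw [(Spec.map (f.stalkMap t)).isEmbedding.injective e1]

theorem exists_lift {t : T} [IsIso (f.stalkMap t)] {y : X} (h : y ⤳ f t) :
    ∃ ψ : Spec (X.presheaf.stalk y) ⟶ T,
      ψ ≫ f = X.fromSpecStalk y ∧ ψ (closedPoint (X.presheaf.stalk y)) ⤳ t := by
  refine ⟨Spec.map (X.presheaf.stalkSpecializes h) ≫ Spec.map (inv (f.stalkMap t)) ≫ T.fromSpecStalk t,
    ?_, ?_⟩
  · rw [Category.assoc, Category.assoc, ← Scheme.SpecMap_stalkMap_fromSpecStalk,
      ← Spec.map_comp_assoc (f.stalkMap t), IsIso.hom_inv_id, Spec.map_id, Category.id_comp,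
      Scheme.SpecMap_stalkSpecializes_fromSpecStalk]
  · show _ ∈ {z | z ⤳ t}
    rw [← Scheme.range_fromSpecStalk]
    exact ⟨_, rfl⟩

theorem exists_preimage {t : T} [IsIso (f.stalkMap t)] {y : X} (h : y ⤳ f t) :
    ∃ q, q ⤳ t ∧ f q = y := by
  obtain ⟨ψ, hψ, hc⟩ := exists_lift f h
  refine ⟨_, hc, ?_⟩
  show (ψ ≫ f) _ = y
  rw [hψ, Scheme.fromSpecStalk_closedPoint]

theorem exists_factor {R : CommRingCat.{u}} [IsLocalRing R] (g : Spec R ⟶ T) {t : T}
    (h : g (closedPoint R) ⤳ t) : ∃ a : Spec R ⟶ Spec (T.presheaf.stalk t), a ≫ T.fromSpecStalk t = g := by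
  refine ⟨Spec.map (Scheme.stalkClosedPointTo g) ≫ Spec.map (T.presheaf.stalkSpecializes h), ?_⟩
  rw [Category.assoc, Scheme.SpecMap_stalkSpecializes_fromSpecStalk,
    Scheme.Spec_stalkClosedPointTo_fromSpecStalk]

theorem hom_ext {R : CommRingCat.{u}} [IsLocalRing R] (g g' : Spec R ⟶ T) {t : T} [IsIso (f.stalkMap t)]
    (h : g (closedPoint R) ⤳ t) (h' : g' (closedPoint R) ⤳ t) (e : g ≫ f = g' ≫ f) : g = g' := by
  obtain ⟨a, rfl⟩ := exists_factor g h
  obtain ⟨b, rfl⟩ := exists_factor g' h'
  rw [Category.assoc, Category.assoc, ← Scheme.SpecMap_stalkMap_fromSpecStalk, cancel_mono_assoc_iff] at e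
  rw [(cancel_mono (Spec.map (f.stalkMap t))).1 e]

theorem isIso_stalkMap_of_specializes {t q : T} [IsIso (f.stalkMap t)] (h : q ⤳ t) :
    IsIso (f.stalkMap q) := by
  obtain ⟨ψ, hψ, hc⟩ := exists_lift f (h.map f.continuous)
  have hq : ψ (closedPoint (X.presheaf.stalk (f q))) = q := by
    refine eq_of_specializes f hc h ?_
    show (ψ ≫ f) _ = _
    rw [hψ, Scheme.fromSpecStalk_closedPoint]
  let g : Spec (T.presheaf.stalk q) ⟶ T := Spec.map (f.stalkMap q) ≫ ψ
  have hg : g = T.fromSpecStalk q := by
    refine hom_ext f g _ (t := t) ?_ ?_ ?_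
    · show ψ (Spec.map (f.stalkMap q) (closedPoint _)) ⤳ t
      rw [Spec_closedPoint]
      exact hc
    · rw [Scheme.fromSpecStalk_closedPoint]; exact h
    · rw [Category.assoc, hψ, Scheme.SpecMap_stalkMap_fromSpecStalk]
  let lam : T.presheaf.stalk q ⟶ X.presheaf.stalk (f q) :=
    T.presheaf.stalkSpecializes (specializes_of_eq hq) ≫ Scheme.stalkClosedPointTo ψ
  have hlam : Spec.map lam ≫ T.fromSpecStalk q = ψ := by
    rw [Spec.map_comp, Category.assoc, Scheme.SpecMap_stalkSpecializes_fromSpecStalk,
      Scheme.Spec_stalkClosedPointTo_fromSpecStalk]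
  refine ⟨⟨lam, Spec.map_injective ?_, Spec.map_injective ?_⟩⟩
  · rw [← cancel_mono (X.fromSpecStalk (f q)), Spec.map_comp, Category.assoc,
      Scheme.SpecMap_stalkMap_fromSpecStalk, reassoc_of% hlam, hψ, Spec.map_id, Category.id_comp]
  · rw [← cancel_mono (T.fromSpecStalk q), Spec.map_comp, Category.assoc, hlam, Spec.map_id,
      Category.id_comp]
    exact hg

theorem eq_of_closure_mem_irreducibleComponents {Z : Scheme.{u}} {z η : Z}
    (hη : closure ({η} : Set Z) ∈ irreducibleComponents (Z : Type u)) (h : z ⤳ η) : z = η := by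
  have hsub : closure ({η} : Set Z) ⊆ closure {z} :=
    closure_minimal (Set.singleton_subset_iff.2 (specializes_iff_mem_closure.1 h)) isClosed_closure
  have := hη.2 isIrreducible_singleton.closure hsub
  exact (h.antisymm (specializes_iff_mem_closure.2 (this (subset_closure rfl)))).eq

variable [T.IsSeparated]
  (hgen : ∀ η : T, closure ({η} : Set T) ∈ irreducibleComponents (T : Type u) →
    closure ({(f.base η)} : Set X) ∈ irreducibleComponents (X : Type u))
  (hinj : ∀ η η' : T, closure ({η} : Set T) ∈ irreducibleComponents (T : Type u) →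
    closure ({η'} : Set T) ∈ irreducibleComponents (T : Type u) → f.base η = f.base η' → η = η')

include hgen hinj in
/-- A point of `X` has at most one preimage at which the stalk map is an isomorphism. -/
theorem eq_of_isIso_stalkMap {q q' : T} [IsIso (f.stalkMap q)] [IsIso (f.stalkMap q')]
    (e : f q = f q') : q = q' := by
  obtain ⟨η, hη, hηq⟩ : ∃ η : T, closure ({η} : Set T) ∈ irreducibleComponents (T : Type u) ∧ η ⤳ q := by
    let c : irreducibleComponents (T : Type u) := ⟨_, irreducibleComponent_mem_irreducibleComponents q⟩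
    refine ⟨(genericPoints.ofComponent c).1, (genericPoints.ofComponent c).2, ?_⟩
    rw [specializes_iff_mem_closure, (genericPoints.isGenericPoint_ofComponent c).def]
    exact mem_irreducibleComponent
  obtain ⟨η', hη'q, hη'⟩ := exists_preimage f (t := q') (y := f η)
    (by rw [← e]; exact hηq.map f.continuous)
  have hη'c : closure ({η'} : Set T) ∈ irreducibleComponents (T : Type u) := by
    let c : irreducibleComponents (T : Type u) := ⟨_, irreducibleComponent_mem_irreducibleComponents η'⟩
    have h1 : (genericPoints.ofComponent c).1 ⤳ η' := by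
      rw [specializes_iff_mem_closure, (genericPoints.isGenericPoint_ofComponent c).def]
      exact mem_irreducibleComponent
    have h2 : f (genericPoints.ofComponent c).1 = f η := by
      refine eq_of_closure_mem_irreducibleComponents (hgen η hη) ?_
      rw [← hη']
      exact h1.map f.continuous
    have h3 := eq_of_specializes f (h1.trans hη'q) hη'q (h2.trans hη'.symm)
    exact h3 ▸ (genericPoints.ofComponent c).2
  obtain rfl : η = η' := hinj η η' hη hη'c hη'.symm
  haveI := isIso_stalkMap_of_specializes f hηq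
  -- lifts of the local scheme at the common image, restricted to an integral closed subscheme
  obtain ⟨g, hg, hgc⟩ := exists_lift f (t := q) (y := f q) specializes_rfl
  obtain ⟨g', hg', hgc'⟩ := exists_lift f (t := q') (y := f q) (specializes_of_eq e)
  have hgq : g (closedPoint _) = q := eq_of_specializes f hgc specializes_rfl (by
    show (g ≫ f) _ = _; rw [hg, Scheme.fromSpecStalk_closedPoint])
  have hgq' : g' (closedPoint _) = q' := eq_of_specializes f hgc' specializes_rfl (by
    show (g' ≫ f) _ = _; rw [hg', Scheme.fromSpecStalk_closedPoint]; exact e)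
  obtain ⟨w, hw⟩ : f η ∈ Set.range (X.fromSpecStalk (f q)) := by
    rw [Scheme.range_fromSpecStalk]; exact hηq.map f.continuous
  have hgw : g w = η := eq_of_specializes f (t := q)
    (((specializes_closedPoint w).map g.continuous).trans (specializes_of_eq hgq)) hηq (by
      show (g ≫ f) _ = _; rw [hg]; exact hw)
  have hgw' : g' w = η := eq_of_specializes f (t := q')
    (((specializes_closedPoint w).map g'.continuous).trans (specializes_of_eq hgq')) hη'q (by
      show (g' ≫ f) _ = _; rw [hg']; exact hw)
  let D := (X.presheaf.stalk (f q) : Type u) ⧸ w.asIdeal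
  haveI := w.isPrime
  haveI : IsDomain D := Ideal.Quotient.isDomain _
  haveI : IsLocalRing D := .of_surjective' (Ideal.Quotient.mk w.asIdeal) Ideal.Quotient.mk_surjective
  let ι : Spec (CommRingCat.of D) ⟶ Spec (X.presheaf.stalk (f q)) :=
    Spec.map (CommRingCat.ofHom (Ideal.Quotient.mk w.asIdeal))
  let K := FractionRing D
  let j : Spec (CommRingCat.of K) ⟶ Spec (CommRingCat.of D) :=
    Spec.map (CommRingCat.ofHom (algebraMap D K))
  haveI : IsDominant j := by
    refine ⟨?_⟩
    show DenseRange (PrimeSpectrum.comap (algebraMap D K))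
    rw [PrimeSpectrum.denseRange_comap_iff_ker_le_nilRadical]
    rw [(RingHom.injective_iff_ker_eq_bot _).1 (IsFractionRing.injective D K)]
    exact bot_le
  have hjw : ι (j (closedPoint K)) = w := by
    refine PrimeSpectrum.ext ?_
    show ((closedPoint K).asIdeal.comap (algebraMap D K)).comap (Ideal.Quotient.mk w.asIdeal) = _
    rw [show (closedPoint K).asIdeal = ⊥ from IsLocalRing.maximalIdeal_eq_bot,
      Ideal.comap_bot_of_injective _ (IsFractionRing.injective D K), ← RingHom.ker_eq_comap_bot,
      Ideal.mk_ker]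
  have key : j ≫ ι ≫ g = j ≫ ι ≫ g' := by
    refine hom_ext f _ _ (t := η) ?_ ?_ ?_
    · show g (ι (j _)) ⤳ η
      rw [hjw, hgw]
    · show g' (ι (j _)) ⤳ η
      rw [hjw, hgw']
    · rw [Category.assoc, Category.assoc, Category.assoc, Category.assoc, hg, hg']
  have key' : ι ≫ g = ι ≫ g' := ext_of_isDominant j key
  have hι : ι (closedPoint D) = closedPoint _ := by
    haveI : IsLocalHom (CommRingCat.ofHom (Ideal.Quotient.mk w.asIdeal)).hom :=
      IsLocalHom.of_surjective _ Ideal.Quotient.mk_surjective
    exact Spec_closedPoint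
  calc q = (ι ≫ g) (closedPoint D) := by show q = g (ι _); rw [hι, hgq]
    _ = (ι ≫ g') (closedPoint D) := by rw [key']
    _ = q' := by show g' (ι _) = q'; rw [hι, hgq']

end Groth.Agent.AffineNhd
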