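import Groth.Agent.AffineNhd.Components
import Groth.Agent.MorLib.Thick.Affine

/-!
# An affine open containing a finite set, from affine opens of the irreducible components
-/

open CategoryTheory CategoryTheory.Limits AlgebraicGeometry TopologicalSpace Opposite

namespace Groth.Agent.AffineNhd

universe u

theorem hasNhd_of_opens {X : Scheme.{u}} (T : Finset X) (Y : Closeds X) (V : (red Y).Opens) (hV : IsAffineOpen V)
    (h : ∀ t ∈ T, t ∈ Y → t ∈ redι Y '' (V : Set (red Y))) : HasNhd T Y := by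
  obtain ⟨O, hO, hOV⟩ := (redι Y).isEmbedding.isInducing.isOpen_iff.1 V.isOpen
  have e : redι Y ⁻¹ᵁ (⟨O, hO⟩ : X.Opens) = V := Opens.ext hOV
  refine ⟨⟨O, hO⟩, e.symm ▸ hV, fun t ht htY => ?_⟩
  obtain ⟨y, hy, rfl⟩ := h t ht htY
  show y ∈ redι Y ⁻¹ᵁ (⟨O, hO⟩ : X.Opens)
  rw [e]
  exact hy

theorem exists_affineOpen_of_per_component (X : Scheme.{u})
    (hX : (irreducibleComponents (X : Type u)).Finite) (T : Finset X)
    (h : ∀ (Z : Set X) (hZ : Z ∈ irreducibleComponents (X : Type u)),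
      ∃ V : (red (⟨Z, isClosed_of_mem_irreducibleComponents Z hZ⟩ : Closeds X)).Opens,
        IsAffineOpen V ∧ ∀ t ∈ T, t ∈ Z →
          t ∈ redι (⟨Z, isClosed_of_mem_irreducibleComponents Z hZ⟩ : Closeds X) '' (V : Set _)) :
    ∃ U : X.Opens, IsAffineOpen U ∧ ∀ t ∈ T, t ∈ U := by
  classical
  haveI := hX.fintype
  let Y : irreducibleComponents (X : Type u) → Closeds X :=
    fun Z => ⟨Z.1, isClosed_of_mem_irreducibleComponents Z.1 Z.2⟩
  have h1 : HasNhd T (Finset.univ.sup Y) := HasNhd.finset_sup _ _ fun Z _ => by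
    obtain ⟨V, hV, hT⟩ := h Z.1 Z.2
    exact hasNhd_of_opens T (Y Z) V hV hT
  have htop : ∀ x : X, x ∈ Finset.univ.sup Y := fun x => by
    have h2 : Y ⟨irreducibleComponent x, irreducibleComponent_mem_irreducibleComponents x⟩ ≤ Finset.univ.sup Y :=
      Finset.le_sup (Finset.mem_univ _)
    exact h2 mem_irreducibleComponent
  obtain ⟨O, hO, hT⟩ := h1
  refine ⟨O, ?_, fun t ht => hT t ht (htop t)⟩
  haveI : IsAffine (redι (Finset.univ.sup Y) ⁻¹ᵁ O).toScheme := hO
  refine MorLib.Thick.isAffine_of_thickening (redι (Finset.univ.sup Y) ∣_ O) (fun o => ?_)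
  obtain ⟨y, hy⟩ : o.1 ∈ Set.range (redι (Finset.univ.sup Y)) := by
    rw [range_redι]; exact htop o.1
  refine ⟨⟨y, show redι _ y ∈ O by rw [hy]; exact o.2⟩, O.ι.isOpenEmbedding.injective ?_⟩
  show ((redι _ ∣_ O) ≫ O.ι) _ = o.1
  rw [morphismRestrict_ι]
  exact hy

end Groth.Agent.AffineNhd
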