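import Mathlib.AlgebraicGeometry.Morphisms.ClosedImmersion
import Mathlib.AlgebraicGeometry.Morphisms.Affine
import Mathlib.RingTheory.Ideal.Operations

/-!
# A reduced scheme which is the union of two affine closed subschemes is affine
-/

open CategoryTheory CategoryTheory.Limits AlgebraicGeometry TopologicalSpace Opposite

namespace Groth.Agent.AffineNhd

universe u

variable {W Y Z : Scheme.{u}} (a : Y ⟶ W) (b : Z ⟶ W) [IsClosedImmersion a] [IsClosedImmersion b]

set_option backward.isDefEq.respectTransparency false in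
theorem app_surjective {U : W.Opens} (hU : IsAffineOpen U) : Function.Surjective (a.app U) := by
  obtain ⟨V, rfl⟩ : ∃ V : W.affineOpens, V.1 = U := ⟨⟨U, hU⟩, rfl⟩
  rw [← a.toImage_imageι]
  simp only [Scheme.Hom.comp_app, CommRingCat.hom_comp, RingHom.coe_comp, Scheme.Hom.image, Scheme.Hom.imageι]
  rw [a.ker.subschemeι_app V, CommRingCat.hom_comp, RingHom.coe_comp]
  exact (ConcreteCategory.bijective_of_isIso _).2.comp
    ((ConcreteCategory.bijective_of_isIso _).2.comp Ideal.Quotient.mk_surjective)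

/-- A function not in the given primes in a translate of an ideal. -/
theorem exists_add_notMem {R : Type*} [CommRing R] (S : Finset (PrimeSpectrum R)) (c : R) (I : Ideal R)
    (h : ∀ p ∈ S, c ∈ p.asIdeal → ¬ I ≤ p.asIdeal) : ∃ i ∈ I, ∀ p ∈ S, c + i ∉ p.asIdeal := by
  classical
  induction S using Finset.strongInduction with
  | H S ih =>
    rcases S.eq_empty_or_nonempty with rfl | hne
    · exact ⟨0, I.zero_mem, fun p hp => absurd hp (Finset.notMem_empty p)⟩
    obtain ⟨p, hp, hmin⟩ := S.exists_minimal hne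
    obtain ⟨i, hi, hiS⟩ := ih (S.erase p) (Finset.erase_ssubset hp) fun q hq => h q (Finset.mem_of_mem_erase hq)
    by_cases hx : c + i ∈ p.asIdeal
    · have hIp : ¬ I ≤ p.asIdeal := fun hle =>
        h p hp ((Submodule.add_mem_iff_left _ (hle hi)).1 hx) hle
      have hE : ¬ I * ∏ q ∈ S.erase p, q.asIdeal ≤ p.asIdeal := fun hle => by
        rcases p.isPrime.mul_le.1 hle with h1 | h1
        · exact hIp h1
        · obtain ⟨q, hq, hqp⟩ := p.isPrime.prod_le.1 h1
          have hle' : q ≤ p := hqp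
          exact (Finset.mem_erase.1 hq).1 (le_antisymm hle' (hmin (Finset.mem_of_mem_erase hq) hle'))
      obtain ⟨e, he, hep⟩ : ∃ e, e ∈ I * ∏ q ∈ S.erase p, q.asIdeal ∧ e ∉ p.asIdeal := Set.not_subset.1 hE
      have heI : e ∈ I := (Ideal.mul_le_left (I := I) (J := ∏ q ∈ S.erase p, q.asIdeal)) he
      have heP : e ∈ ∏ q ∈ S.erase p, q.asIdeal :=
        (Ideal.mul_le_right (I := I) (J := ∏ q ∈ S.erase p, q.asIdeal)) he
      refine ⟨i + e, I.add_mem hi heI, fun q hq hmem => ?_⟩
      rw [← add_assoc] at hmem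
      by_cases hqp : q = p
      · subst hqp
        exact hep ((Submodule.add_mem_iff_right _ hx).1 hmem)
      · have hqS : q ∈ S.erase p := Finset.mem_erase.2 ⟨hqp, hq⟩
        have hle : ∏ q ∈ S.erase p, q.asIdeal ≤ q.asIdeal :=
          Ideal.prod_le_inf.trans (Finset.inf_le (f := fun q : PrimeSpectrum R => q.asIdeal) hqS)
        exact hiS q hqS ((Submodule.add_mem_iff_left _ (hle heP)).1 hmem)
    · refine ⟨i, hi, fun q hq => ?_⟩
      by_cases hqp : q = p
      · exact hqp ▸ hx
      · exact hiS q (Finset.mem_erase.2 ⟨hqp, hq⟩)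

/-- Avoiding a closed set by a basic open containing finitely many points of an affine open. -/
theorem exists_basicOpen_finset {P : W.Opens} (hP : IsAffineOpen P) (F : Finset W) (hFP : ∀ x ∈ F, x ∈ P)
    (V : W.Opens) (hFV : ∀ x ∈ F, x ∈ V) :
    ∃ f : Γ(W, P), W.basicOpen f ≤ V ∧ ∀ x ∈ F, x ∈ W.basicOpen f := by
  classical
  let J : Ideal Γ(W, P) := PrimeSpectrum.vanishingIdeal (hP.fromSpec ⁻¹' (V : Set W)ᶜ)
  let S : Finset (PrimeSpectrum Γ(W, P)) := F.attach.image fun x => hP.primeIdealOf ⟨x.1, hFP x.1 x.2⟩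
  obtain ⟨i, hi, hiS⟩ := exists_add_notMem S (0 : Γ(W, P)) J fun p hp _ hle => by
    obtain ⟨x, -, rfl⟩ := Finset.mem_image.1 hp
    have hcl : IsClosed (hP.fromSpec ⁻¹' (V : Set W)ᶜ) :=
      V.isOpen.isClosed_compl.preimage hP.fromSpec.continuous
    have : hP.primeIdealOf ⟨x.1, hFP x.1 x.2⟩ ∈ hP.fromSpec ⁻¹' (V : Set W)ᶜ := by
      refine hcl.closure_eq.subset ?_
      exact (PrimeSpectrum.zeroLocus_vanishingIdeal_eq_closure _).subset ((PrimeSpectrum.mem_zeroLocus _ _).2 hle)
    exact this ((hP.fromSpec_primeIdealOf _).symm ▸ hFV x.1 x.2)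
  simp only [zero_add] at hiS
  refine ⟨i, fun y hy => ?_, fun x hx => ?_⟩
  · by_contra hyV
    have hyP : y ∈ P := W.basicOpen_le _ hy
    have h1 : hP.primeIdealOf ⟨y, hyP⟩ ∈ hP.fromSpec ⁻¹' (V : Set W)ᶜ := by
      show hP.fromSpec _ ∉ V
      rwa [hP.fromSpec_primeIdealOf]
    have h2 := (PrimeSpectrum.mem_vanishingIdeal _ i).1 hi _ h1
    rw [hP.primeIdealOf_eq_map_closedPoint] at h2
    exact h2 ((W.mem_basicOpen i y hyP).1 hy)
  · have h2 := hiS _ (Finset.mem_image.2 ⟨⟨x, hx⟩, Finset.mem_attach _ _, rfl⟩)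
    rw [hP.primeIdealOf_eq_map_closedPoint] at h2
    exact (W.mem_basicOpen i x (hFP x hx)).2 (IsLocalRing.notMem_maximalIdeal.1 h2)

theorem appLE_top_eq (f : Y ⟶ W) (w : Γ(W, ⊤)) : f.appTop w = f.app ⊤ w := rfl

/-- The intersection of the two pieces. -/
noncomputable abbrev inter : Scheme.{u} := (Scheme.Hom.ker a ⊔ Scheme.Hom.ker b).subscheme

/-- The inclusion of the intersection. -/
noncomputable abbrev interι : inter a b ⟶ W := (Scheme.Hom.ker a ⊔ Scheme.Hom.ker b).subschemeι

/-- The map from the intersection to the first piece. -/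
noncomputable def interFst : inter a b ⟶ Y :=
  IsClosedImmersion.lift a (interι a b) (by rw [Scheme.IdealSheafData.ker_subschemeι]; exact le_sup_left)

/-- The map from the intersection to the second piece. -/
noncomputable def interSnd : inter a b ⟶ Z :=
  IsClosedImmersion.lift b (interι a b) (by rw [Scheme.IdealSheafData.ker_subschemeι]; exact le_sup_right)

theorem interFst_comp : interFst a b ≫ a = (interι a b) := IsClosedImmersion.lift_fac _ _ _

theorem interSnd_comp : interSnd a b ≫ b = (interι a b) := IsClosedImmersion.lift_fac _ _ _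

instance : IsClosedImmersion (interFst a b) := by
  have : IsClosedImmersion (interFst a b ≫ a) := by rw [interFst_comp]; infer_instance
  exact IsClosedImmersion.of_comp_isClosedImmersion _ a

instance : IsClosedImmersion (interSnd a b) := by
  have : IsClosedImmersion (interSnd a b ≫ b) := by rw [interSnd_comp]; infer_instance
  exact IsClosedImmersion.of_comp_isClosedImmersion _ b

theorem inter_preimage (U : W.Opens) : interFst a b ⁻¹ᵁ (a ⁻¹ᵁ U) = interSnd a b ⁻¹ᵁ (b ⁻¹ᵁ U) := by
  rw [← Scheme.Hom.comp_preimage, ← Scheme.Hom.comp_preimage, interFst_comp, interSnd_comp]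

theorem interFst_preimage (U : W.Opens) : interFst a b ⁻¹ᵁ (a ⁻¹ᵁ U) = (interι a b) ⁻¹ᵁ U := by
  rw [← Scheme.Hom.comp_preimage, interFst_comp]

theorem interSnd_preimage (U : W.Opens) : interSnd a b ⁻¹ᵁ (b ⁻¹ᵁ U) = (interι a b) ⁻¹ᵁ U := by
  rw [← Scheme.Hom.comp_preimage, interSnd_comp]

theorem interFst_app_app (U : W.Opens) (r : Γ(W, U)) :
    (interFst a b).app (a ⁻¹ᵁ U) (a.app U r) =
      (inter a b).presheaf.map (eqToHom (by rw [← Scheme.Hom.comp_preimage, interFst_comp])).op ((interι a b).app U r) := by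
  have := congr($(Scheme.Hom.congr_app (interFst_comp a b) U) r)
  exact this

theorem interSnd_app_app (U : W.Opens) (r : Γ(W, U)) :
    (interSnd a b).app (b ⁻¹ᵁ U) (b.app U r) =
      (inter a b).presheaf.map (eqToHom (by rw [← Scheme.Hom.comp_preimage, interSnd_comp])).op ((interι a b).app U r) := by
  have := congr($(Scheme.Hom.congr_app (interSnd_comp a b) U) r)
  exact this

theorem app_top_res {S S' : Scheme.{u}} (j : S ⟶ S') (g : Γ(S', ⊤)) (V : S'.Opens) :
    j.app V (S'.presheaf.map (homOfLE le_top).op g) =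
      S.presheaf.map (homOfLE (le_top : j ⁻¹ᵁ V ≤ ⊤)).op (j.appTop g) :=
  congr($(j.naturality (homOfLE (le_top : V ≤ ⊤)).op) g)

theorem map_congr_open {S : Scheme.{u}} {V₁ V₂ : S.Opens} (hV : V₁ = V₂) (x : Γ(S, ⊤)) :
    S.presheaf.map (homOfLE (le_top : V₁ ≤ ⊤)).op x =
      S.presheaf.map (eqToHom hV).op (S.presheaf.map (homOfLE le_top).op x) := by
  subst hV
  simp

theorem agree_mem_ker (g : Γ(Y, ⊤)) (h : Γ(Z, ⊤)) (e : (interFst a b).appTop g = (interSnd a b).appTop h)
    (U : W.affineOpens) {r r' : Γ(W, U.1)} (hr : a.app U.1 r = Y.presheaf.map (homOfLE le_top).op g)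
    (hr' : b.app U.1 r' = Z.presheaf.map (homOfLE le_top).op h) :
    r - r' ∈ (Scheme.Hom.ker a ⊔ Scheme.Hom.ker b).ideal U := by
  rw [← (Scheme.Hom.ker a ⊔ Scheme.Hom.ker b).ker_subschemeι, Scheme.Hom.ker_apply, RingHom.mem_ker,
    map_sub, sub_eq_zero]
  have h1 := interFst_app_app a b U.1 r
  have h2 := interSnd_app_app a b U.1 r'
  rw [hr, app_top_res, e] at h1
  rw [hr', app_top_res] at h2
  rw [map_congr_open ((interFst_preimage a b U.1)), ] at h1
  rw [map_congr_open ((interSnd_preimage a b U.1)), ] at h2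
  have := (ConcreteCategory.bijective_of_isIso ((inter a b).presheaf.map (eqToHom (interFst_preimage a b U.1)).op)).injective
  have h1' := this h1
  have := (ConcreteCategory.bijective_of_isIso ((inter a b).presheaf.map (eqToHom (interSnd_preimage a b U.1)).op)).injective
  exact h1'.symm.trans (this h2)

section union

variable [IsReduced W] (hcov : Set.range a ∪ Set.range b = Set.univ)

include hcov in
theorem eq_of_app_eq {U : W.Opens} (s t : Γ(W, U)) (ha : a.app U s = a.app U t) (hb : b.app U s = b.app U t) :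
    s = t := by
  rw [← sub_eq_zero, ← AlgebraicGeometry.basicOpen_eq_bot_iff, ← le_bot_iff]
  intro x hx
  rcases (hcov.symm.subset (Set.mem_univ x) : x ∈ Set.range a ∪ Set.range b) with ⟨y, rfl⟩ | ⟨z, rfl⟩
  · have : y ∈ a ⁻¹ᵁ W.basicOpen (s - t) := hx
    rw [Scheme.preimage_basicOpen, map_sub, ha, sub_self, Scheme.basicOpen_zero] at this
    exact this
  · have : z ∈ b ⁻¹ᵁ W.basicOpen (s - t) := hx
    rw [Scheme.preimage_basicOpen, map_sub, hb, sub_self, Scheme.basicOpen_zero] at this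
    exact this

include hcov in
/-- Functions on the two pieces agreeing on the intersection glue. -/
theorem exists_glue_pair (g : Γ(Y, ⊤)) (h : Γ(Z, ⊤))
    (e : (interFst a b).appTop g = (interSnd a b).appTop h) :
    ∃ w : Γ(W, ⊤), a.appTop w = g ∧ b.appTop w = h := by
  have hloc : ∀ U : W.affineOpens, ∃ x : Γ(W, U.1),
      a.app U x = Y.presheaf.map (homOfLE le_top).op g ∧ b.app U x = Z.presheaf.map (homOfLE le_top).op h := by
    intro U
    obtain ⟨r, hr⟩ := app_surjective a U.2 (Y.presheaf.map (homOfLE le_top).op g)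
    obtain ⟨r', hr'⟩ := app_surjective b U.2 (Z.presheaf.map (homOfLE le_top).op h)
    have hker := agree_mem_ker a b g h e U hr hr'
    obtain ⟨α, hα, β, hβ, hab⟩ := Submodule.mem_sup.1 (show r - r' ∈ (Scheme.Hom.ker a).ideal U ⊔ (Scheme.Hom.ker b).ideal U from hker)
    rw [Scheme.Hom.ker_apply, RingHom.mem_ker] at hα hβ
    refine ⟨r - α, by rw [map_sub, hα, sub_zero, hr], ?_⟩
    rw [show r - α = r' + β by linear_combination -hab, map_add, hβ, add_zero, hr']
  choose x hxa hxb using hloc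
  have hres : ∀ (U V : W.Opens) (hVU : V ≤ U) (s : Γ(W, U)),
      a.app V (W.presheaf.map (homOfLE hVU).op s) =
        Y.presheaf.map (homOfLE (fun y hy => hVU hy : a ⁻¹ᵁ V ≤ a ⁻¹ᵁ U)).op (a.app U s) :=
    fun U V hVU s => congr($(a.naturality (homOfLE hVU).op) s)
  have hres' : ∀ (U V : W.Opens) (hVU : V ≤ U) (s : Γ(W, U)),
      b.app V (W.presheaf.map (homOfLE hVU).op s) =
        Z.presheaf.map (homOfLE (fun y hy => hVU hy : b ⁻¹ᵁ V ≤ b ⁻¹ᵁ U)).op (b.app U s) :=
    fun U V hVU s => congr($(b.naturality (homOfLE hVU).op) s)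
  obtain ⟨w, hw, -⟩ := W.sheaf.existsUnique_gluing' (fun U : W.affineOpens => U.1) ⊤ (fun U => homOfLE le_top)
    (by rw [iSup_affineOpens_eq_top]) x (fun U V => by
      refine eq_of_app_eq a b hcov _ _ ?_ ?_
      · erw [hres _ _ inf_le_left, hres _ _ inf_le_right, hxa, hxa]
        exact congr($((Y.presheaf.map_comp _ _).symm.trans ((congrArg Y.presheaf.map (Subsingleton.elim _ _)).trans
          (Y.presheaf.map_comp _ _))) g)
      · erw [hres' _ _ inf_le_left, hres' _ _ inf_le_right, hxb, hxb]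
        exact congr($((Z.presheaf.map_comp _ _).symm.trans ((congrArg Z.presheaf.map (Subsingleton.elim _ _)).trans
          (Z.presheaf.map_comp _ _))) h))
  refine ⟨w, ?_, ?_⟩
  · refine Y.sheaf.eq_of_locally_eq' (fun U : W.affineOpens => a ⁻¹ᵁ U.1) _ (fun U => homOfLE le_top) ?_ _ _
      fun U => ?_
    · rw [← Scheme.Hom.preimage_iSup, iSup_affineOpens_eq_top]
      rfl
    · refine Eq.trans ?_ (hxa U)
      rw [← hw U]
      exact (hres ⊤ U.1 le_top w).symm
  · refine Z.sheaf.eq_of_locally_eq' (fun U : W.affineOpens => b ⁻¹ᵁ U.1) _ (fun U => homOfLE le_top) ?_ _ _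
      fun U => ?_
    · rw [← Scheme.Hom.preimage_iSup, iSup_affineOpens_eq_top]
      rfl
    · refine Eq.trans ?_ (hxb U)
      rw [← hw U]
      exact (hres' ⊤ U.1 le_top w).symm

include hcov in
theorem exists_lift_fst [IsAffine Z] (g : Γ(Y, ⊤)) : ∃ w : Γ(W, ⊤), a.appTop w = g := by
  obtain ⟨h, hh⟩ := (IsClosedImmersion.isAffine_surjective_of_isAffine (f := interSnd a b)).2
    ((interFst a b).appTop g)
  obtain ⟨w, hw, -⟩ := exists_glue_pair a b hcov g h hh.symm
  exact ⟨w, hw⟩

include hcov in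
theorem exists_lift_snd [IsAffine Y] (h : Γ(Z, ⊤)) : ∃ w : Γ(W, ⊤), b.appTop w = h := by
  obtain ⟨g, hg⟩ := (IsClosedImmersion.isAffine_surjective_of_isAffine (f := interFst a b)).2
    ((interSnd a b).appTop h)
  obtain ⟨w, -, hw⟩ := exists_glue_pair a b hcov g h hg
  exact ⟨w, hw⟩

omit [IsReduced W] in
theorem mem_range_inter {y : Y} {z : Z} (h : a y = b z) :
    ∃ c : inter a b, interFst a b c = y ∧ interSnd a b c = z := by
  have hya : a y ∈ (Scheme.Hom.ker a).support := a.range_subset_ker_support ⟨y, rfl⟩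
  have hzb : a y ∈ (Scheme.Hom.ker b).support := b.range_subset_ker_support ⟨z, h.symm⟩
  obtain ⟨c, hc⟩ : a y ∈ Set.range (interι a b) := by
    rw [Scheme.IdealSheafData.range_subschemeι, Scheme.IdealSheafData.support_sup]
    exact ⟨hya, hzb⟩
  refine ⟨c, a.isEmbedding.injective ?_, b.isEmbedding.injective ?_⟩
  · show (interFst a b ≫ a) c = _; rw [interFst_comp]; exact hc
  · show (interSnd a b ≫ b) c = _; rw [interSnd_comp]; exact hc.trans h

include hcov in
/-- A reduced scheme covered by two affine closed subschemes is affine. -/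
theorem isAffine_of_union [IsAffine Y] [IsAffine Z] : IsAffine W := by
  have hpt : ∀ x : W, ∃ f : Γ(W, ⊤), x ∈ W.basicOpen f ∧ IsAffineOpen (W.basicOpen f) := by
    intro x
    obtain ⟨_, ⟨U, hU, rfl⟩, hxU, -⟩ :=
      W.isBasis_affineOpens.exists_subset_of_mem_open (Set.mem_univ x) isOpen_univ
    classical
    have hsep : ∀ {S : Scheme.{u}} [IsAffine S] (j : S ⟶ W) [IsClosedImmersion j],
        ∃ g : Γ(S, ⊤), S.basicOpen g ≤ j ⁻¹ᵁ U ∧ ∀ s : S, j s = x → s ∈ S.basicOpen g := by
      intro S _ j _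
      by_cases hS : ∃ s, j s = x
      · obtain ⟨s, hs⟩ := hS
        obtain ⟨g, hg, hsg⟩ := exists_basicOpen_finset (isAffineOpen_top S) {s} (fun _ _ => trivial) (j ⁻¹ᵁ U)
          (fun s' hs' => by rw [Finset.mem_singleton.1 hs']; show j s ∈ U; rw [hs]; exact hxU)
        exact ⟨g, hg, fun s' hs' => j.isEmbedding.injective (hs'.trans hs.symm) ▸ hsg s (Finset.mem_singleton_self s)⟩
      · exact ⟨0, by simp, fun s hs => absurd ⟨s, hs⟩ hS⟩
    obtain ⟨g₀, hg₀, hxg₀⟩ := hsep a
    obtain ⟨h₀, hh₀, hxh₀⟩ := hsep b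
    have hprod : ∀ g₁ h₁, (interFst a b).appTop (g₀ * g₁) = (interSnd a b).appTop (h₀ * h₁) →
        (∀ y, a y = x → y ∈ Y.basicOpen g₁) → (∀ z, b z = x → z ∈ Z.basicOpen h₁) →
        ∃ f : Γ(W, ⊤), x ∈ W.basicOpen f ∧ IsAffineOpen (W.basicOpen f) := by
      intro g₁ h₁ e hy hz
      obtain ⟨f, hfa, hfb⟩ := exists_glue_pair a b hcov _ _ e
      have hpre : a ⁻¹ᵁ W.basicOpen f = Y.basicOpen (g₀ * g₁) := by rw [Scheme.preimage_basicOpen_top, hfa]
      have hpre' : b ⁻¹ᵁ W.basicOpen f = Z.basicOpen (h₀ * h₁) := by rw [Scheme.preimage_basicOpen_top, hfb]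
      refine ⟨f, ?_, ?_⟩
      · rcases (hcov.symm.subset (Set.mem_univ x) : x ∈ Set.range a ∪ Set.range b) with ⟨y, rfl⟩ | ⟨z, rfl⟩
        · show y ∈ a ⁻¹ᵁ W.basicOpen f
          rw [hpre, Scheme.basicOpen_mul]
          exact ⟨hxg₀ y rfl, hy y rfl⟩
        · show z ∈ b ⁻¹ᵁ W.basicOpen f
          rw [hpre', Scheme.basicOpen_mul]
          exact ⟨hxh₀ z rfl, hz z rfl⟩
      · have hle : W.basicOpen f ≤ U := fun p hp => by
          rcases (hcov.symm.subset (Set.mem_univ p) : p ∈ Set.range a ∪ Set.range b) with ⟨y, rfl⟩ | ⟨z, rfl⟩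
          · have : y ∈ a ⁻¹ᵁ W.basicOpen f := hp
            rw [hpre, Scheme.basicOpen_mul] at this
            exact hg₀ this.1
          · have : z ∈ b ⁻¹ᵁ W.basicOpen f := hp
            rw [hpre', Scheme.basicOpen_mul] at this
            exact hh₀ this.1
        have h1 := hU.basicOpen (W.presheaf.map (homOfLE (le_top : U ≤ ⊤)).op f)
        rwa [Scheme.basicOpen_res, inf_eq_right.2 hle] at h1
    have hk : ∀ {S : Scheme.{u}} [IsAffine S] (j : inter a b ⟶ S) [IsClosedImmersion j] (s : S), s ∉ Set.range j →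
        ∃ g : Γ(S, ⊤), j.appTop g = 0 ∧ s ∈ S.basicOpen g := by
      intro S _ j _ s hs
      by_contra hcon
      push Not at hcon
      refine hs ?_
      have h1 : s ∈ (Scheme.Hom.ker j).support := by
        rw [Scheme.IdealSheafData.mem_support_iff_of_mem (U := ⟨⊤, isAffineOpen_top S⟩) (Set.mem_univ s)]
        refine (S.mem_zeroLocus_iff _ _).2 fun g hg => hcon g ?_
        rw [Scheme.Hom.ker_apply] at hg
        exact hg
      rwa [← SetLike.mem_coe, Scheme.Hom.support_ker, j.isClosedEmbedding.isClosed_range.closure_eq] at h1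
    by_cases hA : x ∈ Set.range a
    · obtain ⟨y, hy⟩ := hA
      by_cases hB : x ∈ Set.range b
      · obtain ⟨z, hz⟩ := hB
        obtain ⟨c, hcy, hcz⟩ := mem_range_inter a b (hy.trans hz.symm)
        obtain ⟨h₁, hh₁⟩ := (IsClosedImmersion.isAffine_surjective_of_isAffine (f := interSnd a b)).2
          ((interFst a b).appTop g₀)
        obtain ⟨g₁, hg₁⟩ := (IsClosedImmersion.isAffine_surjective_of_isAffine (f := interFst a b)).2
          ((interSnd a b).appTop h₀)
        refine hprod g₁ h₁ (by rw [map_mul, map_mul, hg₁, hh₁, mul_comm]) (fun y' hy' => ?_) fun z' hz' => ?_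
        · obtain rfl := a.isEmbedding.injective (hy'.trans hy.symm)
          rw [← hcy]
          show c ∈ interFst a b ⁻¹ᵁ Y.basicOpen g₁
          rw [Scheme.preimage_basicOpen_top, hg₁, ← Scheme.preimage_basicOpen_top]
          show interSnd a b c ∈ Z.basicOpen h₀
          rw [hcz]
          exact hxh₀ z hz
        · obtain rfl := b.isEmbedding.injective (hz'.trans hz.symm)
          rw [← hcz]
          show c ∈ interSnd a b ⁻¹ᵁ Z.basicOpen h₁
          rw [Scheme.preimage_basicOpen_top, hh₁, ← Scheme.preimage_basicOpen_top]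
          show interFst a b c ∈ Y.basicOpen g₀
          rw [hcy]
          exact hxg₀ y hy
      · obtain ⟨g₁, hg₁, hyg₁⟩ := hk (interFst a b) y (by
          rintro ⟨c, hc⟩
          exact hB ⟨interSnd a b c, by
            rw [← hy, ← hc]
            show (interSnd a b ≫ b) c = (interFst a b ≫ a) c
            rw [interSnd_comp, interFst_comp]⟩)
        refine hprod g₁ 0 (by rw [map_mul, hg₁, mul_zero, mul_zero, map_zero]) (fun y' hy' => ?_)
          fun z hz => absurd ⟨z, hz⟩ hB
        obtain rfl := a.isEmbedding.injective (hy'.trans hy.symm)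
        exact hyg₁
    · obtain ⟨z, hz⟩ := ((hcov.symm.subset (Set.mem_univ x) : x ∈ Set.range a ∪ Set.range b)).resolve_left hA
      obtain ⟨h₁, hh₁, hzh₁⟩ := hk (interSnd a b) z (by
        rintro ⟨c, hc⟩
        exact hA ⟨interFst a b c, by
          rw [← hz, ← hc]
          show (interFst a b ≫ a) c = (interSnd a b ≫ b) c
          rw [interSnd_comp, interFst_comp]⟩)
      refine hprod 0 h₁ (by rw [mul_zero, map_zero, map_mul, hh₁, mul_zero]) (fun y hy => absurd ⟨y, hy⟩ hA)
        fun z' hz' => ?_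
      obtain rfl := b.isEmbedding.injective (hz'.trans hz.symm)
      exact hzh₁
  choose f hxf hf using hpt
  let I : Ideal Γ(W, ⊤) := Ideal.span (Set.range f)
  have hunit : ∀ {S : Scheme.{u}} [IsAffine S] (j : S ⟶ W) (_ : ∀ s, ∃ w, j.appTop w = s),
      ∃ e ∈ I, j.appTop e = 1 := by
    intro S _ j hj
    have htop : Ideal.span (j.appTop '' Set.range f) = ⊤ := by
      rw [← IsAffineOpen.iSup_basicOpen_eq_self_iff (isAffineOpen_top S)]
      refine top_le_iff.1 fun s _ => Opens.mem_iSup.2 ⟨⟨_, f (j s), ⟨j s, rfl⟩, rfl⟩, ?_⟩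
      rw [← Scheme.preimage_basicOpen_top]
      exact hxf (j s)
    have h1 : (1 : Γ(S, ⊤)) ∈ I.map j.appTop.hom := by
      rw [Ideal.map_span]
      erw [htop]
      trivial
    obtain ⟨e, he, he'⟩ := (Ideal.mem_map_iff_of_surjective _ hj).1 h1
    exact ⟨e, he, he'⟩
  obtain ⟨e, he, hea⟩ := hunit a (exists_lift_fst a b hcov)
  obtain ⟨e', he', heb⟩ := hunit b (exists_lift_snd a b hcov)
  have hI : I = ⊤ := by
    refine (Ideal.eq_top_iff_one I).2 ?_
    have h1 : (1 : Γ(W, ⊤)) = e + e' - e * e' := by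
      refine eq_of_app_eq a b hcov _ _ ?_ ?_
      · show a.appTop _ = a.appTop _
        simp [hea]
      · show b.appTop _ = b.appTop _
        simp [heb]
    rw [h1]
    exact I.sub_mem (I.add_mem he he') (I.mul_mem_left _ he')
  exact isAffine_of_isAffineOpen_basicOpen _ hI (by rintro _ ⟨x, rfl⟩; exact hf x)

end union

end Groth.Agent.AffineNhd
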